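import Cfsg.Agent.Lib.Fischer.M24Exist.Types

/-!
# A group like Fi24 has trivial centre

A central element is `1` or `l` times an element of the derived group centralizing the part of `C(l)` there.
-/

set_option autoImplicit false
set_option linter.unusedSectionVars false

namespace Cfsg.Lib.Fischer.M24Exist

open Cfsg
open Cfsg.Lib.Fischer.Cent23 (fi23_facts)

universe u

variable {G : Type u} [Group G]

theorem center_eq_bot {l : G} (hl : l * l = 1) (hnc : ∃ k : G, ¬ Commute l k)
    (φ : ↥(Subgroup.centralizer ({l} : Set G)) →* Cfsg.Spor.Fi23) (hsurj : Function.Surjective φ)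
    (hker : ∀ c, φ c = 1 → (c : G) ∈ Subgroup.zpowers l) : Subgroup.center G = ⊥ := by
  rw [eq_bot_iff]
  intro z hz
  have hzl : z ∈ Subgroup.centralizer ({l} : Set G) :=
    Subgroup.mem_centralizer_singleton_iff.2 (Subgroup.mem_center_iff.1 hz l).symm
  have h1 : φ ⟨z, hzl⟩ ∈ Subgroup.center Cfsg.Spor.Fi23 := by
    rw [Subgroup.mem_center_iff]
    intro v
    obtain ⟨b, rfl⟩ := hsurj v
    rw [← map_mul, ← map_mul]
    exact congrArg φ (Subtype.ext (Subgroup.mem_center_iff.1 hz b))
  rw [fi23_facts.2.2, Subgroup.mem_bot] at h1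
  obtain ⟨i, hi⟩ := Subgroup.mem_zpowers_iff.1 (hker _ h1)
  rw [Subgroup.mem_bot]
  have hl2 : l ^ (2 : ℤ) = 1 := by rw [zpow_two, hl]
  rcases Int.even_or_odd' i with ⟨r, rfl | rfl⟩
  · rw [zpow_mul, hl2, one_zpow] at hi
    exact hi.symm
  · rw [zpow_add, zpow_mul, hl2, one_zpow, one_mul, zpow_one] at hi
    obtain ⟨k, hk⟩ := hnc
    have hz' : z = l := hi.symm
    rw [hz'] at hz
    exact absurd (Subgroup.mem_center_iff.1 hz k).symm hk

end Cfsg.Lib.Fischer.M24Exist
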