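import Cfsg.Agent.Lib.Fischer.M24Exist.FromRels
import Cfsg.Agent.Lib.BigPerm.Fi24.Class

set_option autoImplicit false
set_option maxRecDepth 100000

namespace Cfsg.Lib.BigPerm.Fi24

open Cfsg Cfsg.Lib.CosetEnum Cfsg.Lib.BigPerm.Fi24Cert Cfsg.Spor Cfsg.Lib.Fischer

/-- The presented Fi24 with its class is of type M(24). -/
theorem isOfTypeM24' : haveI := finite_Fi24; Cfsg.IsOfTypeM24 Cfsg.Spor.Fi24 D := by
  haveI := finite_Fi24
  obtain ⟨ψ, -, hker, hψ⟩ := exists_onto_Fi23
  obtain ⟨φ, hφdef⟩ : ∃ φ, φ = ψ.comp (MulEquiv.subgroupCongr centralizer_x0).toMonoidHom := ⟨_, rfl⟩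
  have hC : Subgroup.centralizer ({x 0} : Set Spor.Fi24) = Subgroup.closure (x '' {g | g < 12 ∧ g ≠ 1}) := by
    rw [centralizer_x0, Hsub, subW]
    congr 1
    ext y
    constructor
    · rintro ⟨u, hu, rfl⟩
      obtain ⟨g, rfl, hg⟩ := (show ∀ u ∈ bigWords, ∃ g, u = [g] ∧ g < 12 ∧ g ≠ 1 by
        intro u hu; simp only [bigWords, List.mem_cons, List.not_mem_nil, or_false] at hu
        rcases hu with rfl | rfl | rfl | rfl | rfl | rfl | rfl | rfl | rfl | rfl | rfl <;>
          exact ⟨_, rfl, by decide⟩) u hu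
      exact ⟨g, hg, (wordVal_one (by simp only [eps]; omega)).symm⟩
    · rintro ⟨g, hg, rfl⟩
      refine ⟨[g], ?_, wordVal_one (by simp only [eps]; have := hg.1; omega)⟩
      exact (show ∀ g < 12, g ≠ 1 → [g] ∈ bigWords by decide +kernel) g hg.1 hg.2
  have hsimple : IsSimpleGroup (commutator Spor.Fi24) := isFi24'.1
  exact (M24Exist.basics_of_gens x (fun g _ => x_mul_self g)
    (M24Exist.braid_of_rel x fun p hp => x_rel _ (List.mem_append_left _
      ((show ∀ p ∈ M24Exist.edges24, [p.2, p.1, p.2, p.1, p.2, p.1] ∈ numbering.pairs by decide +kernel) p hp)))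
    (fun g h1 h2 => commute_gens (a := 1) (by decide) (by omega)
      ((show ∀ g < 10, 1 ≤ g → [g + 2, 1, g + 2, 1] ∈ numbering.pairs by decide +kernel) g h2 h1))
    closure_x
    (M24Exist.mem_closure_of_word x (w := e7Word) (by decide +kernel) 9 l_eq)
    isClass hsimple card_D hC φ
    (fun g hg c hc => by
      subst hφdef
      exact (congrArg ψ (Subtype.ext (show ((MulEquiv.subgroupCongr centralizer_x0 c : Hsub) : Spor.Fi24) = x (g + 2)
        from hc))).trans (hψ g hg (hc ▸ centralizer_x0.le c.2)))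
    (fun c hc => by
      subst hφdef
      have h : (MulEquiv.subgroupCongr centralizer_x0 c : Hsub) ∈ Zl := hker ▸ MonoidHom.mem_ker.2 hc
      obtain ⟨k, hk⟩ := Subgroup.mem_zpowers_iff.1 h
      exact Subgroup.mem_zpowers_iff.2 ⟨k, congrArg Subtype.val hk⟩)).type24

end Cfsg.Lib.BigPerm.Fi24
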