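import Cfsg.Agent.Lib.Fischer.M24Exist.Center

/-!
# The basic facts from twelve generators

The generators are numbered `l, k, a, b, c, d, e, f, g, j, h, i` from `0` to `11`, so that `x (g + 2)` is the
generator `g` of Fi23.
-/

set_option autoImplicit false
set_option linter.unusedSectionVars false

namespace Cfsg.Lib.Fischer.M24Exist

open Cfsg Cfsg.Lib.CosetEnum
open Cfsg.Lib.Fischer.Cent23 (x23 delta23 fi23_type fi23_facts gen_conj23 delta23_ne common23)

/-- The edges of the graph. -/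
def edges24 : List (ℕ × ℕ) := [(0, 1), (1, 2), (2, 3), (3, 4), (4, 5), (5, 6), (6, 7), (7, 8), (8, 9), (5, 10), (10, 11)]

/-- The ten generators of Fi23 inside. -/
def y24 {G : Type*} (x : ℕ → G) (g : ℕ) : G := x (g + 2)

theorem x23_ne_one {g : ℕ} (hg : g < 10) : x23 g ≠ 1 := by
  intro h
  obtain ⟨A, -, hk, -, hx, -, -, -, -, hcls⟩ := Fi23Out.exists_table
  have hmem : A.x g ∈ conjugatesOf A.d :=
    (A.isConj_iff_exists _).2 ⟨_, A.delta_pts (by rw [hk]; exact hg)⟩
  have := hcls.1.1 _ hmem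
  rw [hx, show Fi23Pres.numbering.gens Cfsg.Spor.Fi23.extra g = 1 from h, orderOf_one] at this
  omega

universe u

variable {G : Type u} [Group G] [Finite G] (x : ℕ → G)

theorem basics_of_gens (hsq : ∀ g < 12, x g * x g = 1) (hbraid : ∀ p ∈ edges24, (x p.1 * x p.2) ^ 3 = 1)
    (hcomm : ∀ g, 1 ≤ g → g < 10 → Commute (x 1) (x (g + 2)))
    (hgen : Subgroup.closure (x '' {g | g < 12}) = ⊤)
    (hl : x 0 ∈ Subgroup.closure ((fun g => x (g + 2)) '' {g | g < 10}))
    (hcls : Cfsg.IsThreeTranspositionClass (conjugatesOf (x 0))) (hsimple : IsSimpleGroup (commutator G))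
    (hcard : Nat.card (conjugatesOf (x 0)) = 306936)
    (hC : Subgroup.centralizer ({x 0} : Set G) = Subgroup.closure (x '' {g | g < 12 ∧ g ≠ 1}))
    (φ : ↥(Subgroup.centralizer ({x 0} : Set G)) →* Cfsg.Spor.Fi23)
    (hφ : ∀ g < 10, ∀ c : ↥(Subgroup.centralizer ({x 0} : Set G)), (c : G) = x (g + 2) → φ c = x23 g)
    (hker : ∀ c, φ c = 1 → (c : G) ∈ Subgroup.zpowers (x 0)) :
    Basics (x 0) (x 1) (y24 x) φ := by
  have hmemC : ∀ g < 12, g ≠ 1 → x g ∈ Subgroup.centralizer ({x 0} : Set G) := fun g h1 h2 =>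
    hC ▸ Subgroup.subset_closure ⟨g, ⟨h1, h2⟩, rfl⟩
  have hyC : ∀ g, g < 10 → x (g + 2) ∈ Subgroup.centralizer ({x 0} : Set G) := fun g hg =>
    hmemC _ (by omega) (by omega)
  have hsurj : Function.Surjective φ := by
    rw [← MonoidHom.range_eq_top, eq_top_iff, ← Fi23Pres.numbering.closure_gens Cfsg.Spor.Fi23.extra,
      Subgroup.closure_le]
    rintro _ ⟨g, hg, rfl⟩
    exact ⟨⟨_, hyC g hg⟩, hφ g hg _ rfl⟩
  have hl1 : φ ⟨x 0, hmemC 0 (by omega) (by omega)⟩ = 1 := by
    have : φ ⟨x 0, hmemC 0 (by omega) (by omega)⟩ ∈ Subgroup.center Cfsg.Spor.Fi23 := by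
      rw [Subgroup.mem_center_iff]
      intro v
      obtain ⟨b, rfl⟩ := hsurj v
      rw [← map_mul, ← map_mul]
      exact congrArg φ (Subtype.ext (Subgroup.mem_centralizer_singleton_iff.1 b.2))
    rwa [fi23_facts.2.2, Subgroup.mem_bot] at this
  have hfar : ¬ Commute (x 0) (x 1) := by
    intro h
    have htop : Subgroup.centralizer ({x 0} : Set G) = ⊤ := by
      rw [eq_top_iff, ← hgen, Subgroup.closure_le]
      rintro _ ⟨g, hg, rfl⟩
      by_cases h1 : g = 1
      · subst h1
        exact Subgroup.mem_centralizer_singleton_iff.2 h.eq.symm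
      · exact hmemC g hg h1
    have hsub : conjugatesOf (x 0) ⊆ {x 0} := by
      intro u hu
      obtain ⟨c, rfl⟩ := isConj_iff.1 hu
      have := Subgroup.mem_centralizer_singleton_iff.1 (htop ▸ Subgroup.mem_top c)
      show c * x 0 * c⁻¹ = x 0
      rw [this, mul_assoc, mul_inv_cancel, mul_one]
    have := Set.ncard_le_ncard hsub (Set.finite_singleton _)
    rw [Set.ncard_singleton, ← Nat.card_coe_set_eq, hcard] at this
    omega
  have hconj : ∀ g < 12, x g ∈ conjugatesOf (x 0) := by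
    have h : ∀ p ∈ edges24, x p.1 ∈ conjugatesOf (x 0) → x p.2 ∈ conjugatesOf (x 0) := fun p hp h1 => by
      have hlt : ∀ q ∈ edges24, q.1 < 12 ∧ q.2 < 12 := by decide
      exact IsConj.trans h1 (isConj_iff.2
        ⟨_, Fi23Out.braid_conj (hsq _ (hlt p hp).1) (hsq _ (hlt p hp).2) (hbraid p hp)⟩)
    have g1 := h (0, 1) (by decide) mem_conjugatesOf_self
    have g2 := h (1, 2) (by decide) g1
    have g3 := h (2, 3) (by decide) g2
    have g4 := h (3, 4) (by decide) g3
    have g5 := h (4, 5) (by decide) g4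
    have g6 := h (5, 6) (by decide) g5
    have g7 := h (6, 7) (by decide) g6
    have g8 := h (7, 8) (by decide) g7
    have g9 := h (8, 9) (by decide) g8
    have g10 := h (5, 10) (by decide) g5
    have g11 := h (10, 11) (by decide) g10
    intro g hg
    interval_cases g <;> first | exact mem_conjugatesOf_self | assumption
  refine
    { cls := hcls
      simple := hsimple
      center := center_eq_bot (hsq 0 (by omega)) ⟨_, hfar⟩ φ hsurj hker
      card := hcard
      k_mem := hconj 1 (by omega)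
      far := hfar
      y_mem := fun g hg => ⟨hconj _ (by omega), fun e => x23_ne_one hg ?_, ?_⟩
      k_comm := fun g h1 h2 => hcomm g h1 h2
      gen := ?_
      img := fun g hg => hφ g hg _ rfl
      ker := hker }
  · rw [← hφ g hg ⟨x 0, hmemC 0 (by omega) (by omega)⟩ e.symm, hl1]
  · exact (Subgroup.mem_centralizer_singleton_iff.1 (hyC g hg)).symm
  · rw [hC, Subgroup.closure_le]
    rintro _ ⟨g, ⟨hg, hg1⟩, rfl⟩
    by_cases h0 : g = 0
    · subst h0; exact hl
    · exact Subgroup.subset_closure ⟨g - 2, show g - 2 < 10 by omega, by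
        show x (g - 2 + 2) = x g
        rw [show g - 2 + 2 = g by omega]⟩

end Cfsg.Lib.Fischer.M24Exist
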