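import Cfsg.Agent.Lib.Fischer.M24Exist.Record
import Cfsg.Agent.S5361

/-!
# Groups of types M(22), M(23) and M(24) exist, given the basic facts about the presented Fi24

`l` is a member of the class, `y 0, …, y 9` generate its centralizer and have the standard generators of Fi23 as
images, and `k` is a member outside the neighbourhood commuting with `y 1, …, y 9`.
-/

set_option autoImplicit false
set_option linter.unusedSectionVars false

namespace Cfsg.Lib.Fischer.M24Exist

open Cfsg Cfsg.Lib.CosetEnum Cfsg.Lib.Fischer Cfsg.Lib.Fischer.Relations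
open Cfsg.Lib.Fischer.Cent23 (x23 delta23 fi23_type fi23_facts gen_conj23)

universe u

variable {G : Type u} [Group G] [Finite G]

/-- The basic facts on a group with a class like the one of Fi24. -/
structure Basics (l k : G) (y : ℕ → G) (φ : ↥(Subgroup.centralizer ({l} : Set G)) →* Cfsg.Spor.Fi23) : Prop where
  cls : Cfsg.IsThreeTranspositionClass (conjugatesOf l)
  simple : IsSimpleGroup (commutator G)
  center : Subgroup.center G = ⊥
  card : Nat.card (conjugatesOf l) = 306936
  k_mem : k ∈ conjugatesOf l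
  far : ¬ Commute l k
  y_mem : ∀ g < 10, y g ∈ perp (conjugatesOf l) l
  k_comm : ∀ g, 1 ≤ g → g < 10 → Commute k (y g)
  gen : Subgroup.centralizer ({l} : Set G) ≤ Subgroup.closure (y '' {g | g < 10})
  img : ∀ g (hg : g < 10),
    φ ⟨y g, Subgroup.mem_centralizer_singleton_iff.2 (y_mem g hg).2.2.eq.symm⟩ = x23 g
  ker : ∀ c, φ c = 1 → (c : G) ∈ Subgroup.zpowers l

namespace Basics

variable {l k : G} {y : ℕ → G} {φ : ↥(Subgroup.centralizer ({l} : Set G)) →* Cfsg.Spor.Fi23} (B : Basics l k y φ)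
include B

theorem prim : Cfsg.IsPrimitiveUnderConj (conjugatesOf l) :=
  (Cfsg.Agent.S5361.result B.cls B.center ⟨l, mem_conjugatesOf_self, y 0, (B.y_mem 0 (by norm_num)).1,
    (B.y_mem 0 (by norm_num)).2.1.symm, (B.y_mem 0 (by norm_num)).2.2⟩).1.1 B.simple

theorem le_centralizer : Subgroup.closure (perp (conjugatesOf l) l) ≤ Subgroup.centralizer ({l} : Set G) :=
  (Subgroup.closure_le _).2 fun _ hu => Subgroup.mem_centralizer_singleton_iff.2 hu.2.2.eq.symm

theorem closure_eq : Subgroup.closure (perp (conjugatesOf l) l) = Subgroup.centralizer ({l} : Set G) :=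
  le_antisymm B.le_centralizer (B.gen.trans (Subgroup.closure_mono fun _ ⟨g, hg, e⟩ => e ▸ B.y_mem g hg))

theorem surj : Function.Surjective φ := by
  rw [← MonoidHom.range_eq_top, eq_top_iff, ← Fi23Pres.numbering.closure_gens Cfsg.Spor.Fi23.extra,
    Subgroup.closure_le]
  rintro _ ⟨g, hg, rfl⟩
  exact ⟨_, B.img g hg⟩

/-- The projection on the neighbourhood group. -/
noncomputable def proj : ↥(Subgroup.closure (perp (conjugatesOf l) l)) →* Cfsg.Spor.Fi23 :=
  φ.comp (MulEquiv.subgroupCongr B.closure_eq).toMonoidHom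

theorem nbr : Nbr (conjugatesOf l) l k B.proj := by
  have hsurj : Function.Surjective B.proj := B.surj.comp (MulEquiv.subgroupCongr B.closure_eq).surjective
  have hT := trans_of_class B.cls
  have hgen : ∀ g (hg : g < 10), B.proj ⟨y g, Subgroup.subset_closure (B.y_mem g hg)⟩ = x23 g :=
    fun g hg => B.img g hg
  have hF : IsFischer (conjugatesOf l) := isFischer_of_primitive hT B.prim
    ⟨l, mem_conjugatesOf_self, y 0, (B.y_mem 0 (by norm_num)).1, (B.y_mem 0 (by norm_num)).2.1.symm,
      (B.y_mem 0 (by norm_num)).2.2⟩ B.center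
  refine
    { trans := hT
      prim := B.prim
      center := B.center
      card := B.card
      mem := mem_conjugatesOf_self
      mem' := B.k_mem
      far := B.far
      surj := hsurj
      ker := ?_
      img := ?_
      gens := fun g h1 h2 => ⟨⟨y g, Subgroup.subset_closure (B.y_mem g h2)⟩,
        ⟨B.y_mem g h2, B.k_comm g h1 h2⟩, hgen g h2⟩ }
  · refine le_antisymm (fun c hc => ?_) fun c hc => ?_
    · obtain ⟨i, hi⟩ := Subgroup.mem_zpowers_iff.1 (B.ker _ hc)
      refine Subgroup.mem_center_iff.2 fun u => Subtype.ext ?_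
      show (u : G) * c = c * u
      rw [show (c : G) = l ^ i from hi.symm]
      exact (Commute.zpow_right (Subgroup.mem_centralizer_singleton_iff.1 (B.le_centralizer u.2)) i).eq
    · have h1 : B.proj c ∈ Subgroup.center Cfsg.Spor.Fi23 := by
        rw [Subgroup.mem_center_iff]
        intro v
        obtain ⟨b, rfl⟩ := hsurj v
        rw [← map_mul, Subgroup.mem_center_iff.1 hc b, map_mul]
      rwa [fi23_facts.2.2, Subgroup.mem_bot] at h1
  · ext v
    constructor
    · rintro ⟨⟨u, hu'⟩, hu, rfl⟩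
      obtain ⟨g, hg, hgu⟩ := perp_transitive hF mem_conjugatesOf_self (B.y_mem 0 (by norm_num)) hu
      refine gen_conj23.trans (isConj_iff.2 ⟨B.proj ⟨g, hg⟩, ?_⟩)
      rw [← hgen 0 (by norm_num), ← map_inv, ← map_mul, ← map_mul]
      exact congrArg B.proj (Subtype.ext hgu)
    · intro hv
      obtain ⟨w, hw⟩ := isConj_iff.1 (gen_conj23.symm.trans hv)
      obtain ⟨b, rfl⟩ := hsurj w
      refine ⟨b * ⟨y 0, Subgroup.subset_closure (B.y_mem 0 (by norm_num))⟩ * b⁻¹, ?_, ?_⟩
      · exact ((conj_mem_perp hT mem_conjugatesOf_self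
          (Subgroup.closure_mono (Set.subset_insert _ _) b.2)).2 _ (B.y_mem 0 (by norm_num))).1
      · rw [map_mul, map_mul, map_inv, hgen 0 (by norm_num), hw]

theorem type24 : Cfsg.IsOfTypeM24 G (conjugatesOf l) := B.nbr.type24

end Basics

/-- Groups of the three types, given such a group in the lowest universe. -/
theorem types_exist {G : Type} [Group G] [Finite G] {l k : G} {y : ℕ → G}
    {φ : ↥(Subgroup.centralizer ({l} : Set G)) →* Cfsg.Spor.Fi23} (B : Basics l k y φ) :
    (∃ (X : Type) (_ : Group X) (_ : Finite X) (E : Set X),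
      Cfsg.IsThreeTranspositionClass E ∧ Cfsg.IsPrimitiveUnderConj E ∧ Cfsg.IsOfTypeM22 X E) ∧
    (∃ (X : Type) (_ : Group X) (_ : Finite X) (E : Set X),
      Cfsg.IsThreeTranspositionClass E ∧ Cfsg.IsPrimitiveUnderConj E ∧ Cfsg.IsOfTypeM23 X E) ∧
    (∃ (X : Type) (_ : Group X) (_ : Finite X) (E : Set X),
      Cfsg.IsThreeTranspositionClass E ∧ Cfsg.IsPrimitiveUnderConj E ∧ Cfsg.IsOfTypeM24 X E) := by
  obtain ⟨D, -, h1, h2, h3⟩ := Fi22Type.fi22_type
  obtain ⟨k1, k2, k3⟩ := fi23_type
  exact ⟨⟨Cfsg.Spor.Fi22, inferInstance, Cent23.fi22_facts.1, D, h1, h2, h3⟩,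
    ⟨Cfsg.Spor.Fi23, inferInstance, fi23_facts.1, _, k1, k2, k3⟩, ⟨G, inferInstance, inferInstance, _, B.cls, B.prim, B.type24⟩⟩

end Cfsg.Lib.Fischer.M24Exist
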