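import Cfsg.Agent.Lib.Fischer.M24Exist.FromGens
import Cfsg.Agent.Lib.Fischer.M24Exist.Types
import Cfsg.Agent.Lib.CosetEnum.Simple

/-!
# The three types from twelve generators given by relation words
-/

set_option autoImplicit false

namespace Cfsg.Lib.Fischer.M24Exist

open Cfsg Cfsg.Lib.CosetEnum
open Cfsg.Lib.Fischer.Cent23 (x23)

variable {G : Type} [Group G] (x : ℕ → G)

theorem braid_of_rel
    (hrel : ∀ p ∈ edges24, wordVal x [p.2, p.1, p.2, p.1, p.2, p.1] = 1) :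
    ∀ p ∈ edges24, (x p.1 * x p.2) ^ 3 = 1 := by
  intro p hp
  obtain ⟨h1, h2⟩ := (show ∀ p ∈ edges24, p.1 < 12 ∧ p.2 < 12 by decide) p hp
  have h := hrel p hp
  simp only [wordVal, gen, show p.1 ≠ eps by simp only [eps]; omega,
    show p.2 ≠ eps by simp only [eps]; omega, if_false, one_mul] at h
  simpa [pow_succ, mul_assoc] using h

theorem comm_of_rel (hsq : ∀ g < 12, x g * x g = 1)
    (hrel : ∀ g, 1 ≤ g → g < 10 → wordVal x [g + 2, 1, g + 2, 1] = 1) :
    ∀ g, 1 ≤ g → g < 10 → Commute (x 1) (x (g + 2)) := by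
  intro g h1 h2
  have h3 := hrel g h1 h2
  simp only [wordVal, gen, show (1 : ℕ) ≠ eps by simp only [eps]; omega,
    show g + 2 ≠ eps by simp only [eps]; omega, if_false, one_mul] at h3
  show x 1 * x (g + 2) = x (g + 2) * x 1
  rw [mul_assoc] at h3
  rw [eq_inv_of_mul_eq_one_left h3, mul_inv_rev, inv_eq_of_mul_eq_one_left (hsq 1 (by omega)),
    inv_eq_of_mul_eq_one_left (hsq (g + 2) (by omega))]

theorem mem_closure_of_word {w : List ℕ} (hw : ∀ g ∈ w, 2 ≤ g ∧ g < 12) (m : ℕ)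
    (hl : x 0 = ((wordVal x w) ^ m)⁻¹) :
    x 0 ∈ Subgroup.closure ((fun g => x (g + 2)) '' {g | g < 10}) := by
  rw [hl]
  refine inv_mem (pow_mem (Subgroup.closure_mono ?_ (wordVal_mem x (S := w) fun g hg =>
    ⟨hg, by have := (hw g hg).2; simp only [eps]; omega⟩)) m)
  rintro _ ⟨g, hg, rfl⟩
  obtain ⟨h1, h2⟩ := hw g hg
  exact ⟨g - 2, show g - 2 < 10 by omega, congrArg x (show g - 2 + 2 = g by omega)⟩

/-- The three types from the relation words, the centralizer and the class of the first generator. -/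
theorem types_of_rels [Finite G] (hsq : ∀ g < 12, x g * x g = 1)
    (hbraid : ∀ p ∈ edges24, wordVal x [p.2, p.1, p.2, p.1, p.2, p.1] = 1)
    (hcomm : ∀ g, 1 ≤ g → g < 10 → wordVal x [g + 2, 1, g + 2, 1] = 1)
    (hgen : Subgroup.closure (x '' {g | g < 12}) = ⊤)
    {w : List ℕ} (hw : ∀ g ∈ w, 2 ≤ g ∧ g < 12) (m : ℕ) (hl : x 0 = ((wordVal x w) ^ m)⁻¹)
    (hcls : Cfsg.IsThreeTranspositionClass (conjugatesOf (x 0)))
    (hsimple : IsSimpleGroup (commutator G)) (hcard : Nat.card (conjugatesOf (x 0)) = 306936)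
    (hC : Subgroup.centralizer ({x 0} : Set G) = Subgroup.closure (x '' {g | g < 12 ∧ g ≠ 1}))
    (φ : ↥(Subgroup.centralizer ({x 0} : Set G)) →* Cfsg.Spor.Fi23)
    (hφ : ∀ g < 10, ∀ c : ↥(Subgroup.centralizer ({x 0} : Set G)), (c : G) = x (g + 2) → φ c = x23 g)
    (hker : ∀ c, φ c = 1 → (c : G) ∈ Subgroup.zpowers (x 0)) :
    (∃ (X : Type) (_ : Group X) (_ : Finite X) (E : Set X),
      Cfsg.IsThreeTranspositionClass E ∧ Cfsg.IsPrimitiveUnderConj E ∧ Cfsg.IsOfTypeM22 X E) ∧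
    (∃ (X : Type) (_ : Group X) (_ : Finite X) (E : Set X),
      Cfsg.IsThreeTranspositionClass E ∧ Cfsg.IsPrimitiveUnderConj E ∧ Cfsg.IsOfTypeM23 X E) ∧
    (∃ (X : Type) (_ : Group X) (_ : Finite X) (E : Set X),
      Cfsg.IsThreeTranspositionClass E ∧ Cfsg.IsPrimitiveUnderConj E ∧ Cfsg.IsOfTypeM24 X E) :=
  types_exist (basics_of_gens x hsq (braid_of_rel x hbraid) (comm_of_rel x hsq hcomm) hgen
    (mem_closure_of_word x hw m hl) hcls hsimple hcard hC φ hφ hker)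

end Cfsg.Lib.Fischer.M24Exist
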