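import Cfsg.Agent.Lib.BigPerm.Fi24.Class
import Cfsg.Agent.Lib.Fischer.M24Exist.FromRels

/-!
# The presented Fi24 has type M(24)
-/

set_option autoImplicit false
set_option maxRecDepth 100000

namespace Cfsg.Lib.Fischer.M24Exist

open Cfsg

theorem exists_basics24 : haveI := Cfsg.Lib.BigPerm.Fi24.finite_Fi24
    ∃ φ : ↥(Subgroup.centralizer ({Cfsg.Lib.BigPerm.Fi24.x 0} : Set Cfsg.Spor.Fi24)) →* Cfsg.Spor.Fi23,
      Basics (Cfsg.Lib.BigPerm.Fi24.x 0) (Cfsg.Lib.BigPerm.Fi24.x 1) (y24 Cfsg.Lib.BigPerm.Fi24.x) φ := by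
  classical
  haveI := Cfsg.Lib.BigPerm.Fi24.finite_Fi24
  obtain ⟨φ, -, hker, hval⟩ := Cfsg.Lib.BigPerm.Fi24.exists_onto_Fi23
  let e : ↥(Subgroup.centralizer ({Cfsg.Lib.BigPerm.Fi24.x 0} : Set Cfsg.Spor.Fi24)) ≃*
      ↥Cfsg.Lib.BigPerm.Fi24.Hsub := MulEquiv.subgroupCongr Cfsg.Lib.BigPerm.Fi24.centralizer_x0
  refine ⟨φ.comp e.toMonoidHom, basics_of_gens (G := Cfsg.Spor.Fi24) Cfsg.Lib.BigPerm.Fi24.x
    (fun g _ => Cfsg.Lib.BigPerm.Fi24.x_mul_self g) (braid_of_rel _ ?_)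
    (comm_of_rel _ (fun g _ => Cfsg.Lib.BigPerm.Fi24.x_mul_self g) ?_) Cfsg.Lib.BigPerm.Fi24.closure_x
    (mem_closure_of_word _ (w := Cfsg.Lib.BigPerm.Fi24Cert.e7Word) (by decide +kernel) 9
      Cfsg.Lib.BigPerm.Fi24.l_eq)
    Cfsg.Lib.BigPerm.Fi24.isClass Cfsg.Lib.BigPerm.Fi24.isFi24'.1 Cfsg.Lib.BigPerm.Fi24.card_D ?_
    (φ.comp e.toMonoidHom) ?_ ?_⟩
  · intro p hp
    exact Cfsg.Lib.BigPerm.Fi24.x_rel _ (List.mem_append_left _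
      ((show ∀ p ∈ Cfsg.Lib.Fischer.M24Exist.edges24, [p.2, p.1, p.2, p.1, p.2, p.1] ∈
        Cfsg.Lib.BigPerm.Fi24.numbering.pairs by decide +kernel) p hp))
  · intro g h1 h2
    exact Cfsg.Lib.BigPerm.Fi24.x_rel _ (List.mem_append_left _
      ((show ∀ g ∈ List.range 10, 1 ≤ g → [g + 2, 1, g + 2, 1] ∈
        Cfsg.Lib.BigPerm.Fi24.numbering.pairs by decide +kernel) g (List.mem_range.2 h2) h1))
  · rw [Cfsg.Lib.BigPerm.Fi24.centralizer_x0]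
    refine le_antisymm ((Subgroup.closure_le _).2 ?_) ((Subgroup.closure_le _).2 ?_)
    · rintro _ ⟨u, hu, rfl⟩
      obtain ⟨g, hg, h⟩ := (show ∀ u ∈ Cfsg.Lib.BigPerm.Fi24Cert.bigWords,
        ∃ g ∈ [0, 2, 3, 4, 5, 6, 7, 8, 9, 10, 11], [g] = u by decide +kernel) u hu
      subst h
      have hg' : g < 12 ∧ g ≠ 1 :=
        (show ∀ g ∈ [0, 2, 3, 4, 5, 6, 7, 8, 9, 10, 11], g < 12 ∧ g ≠ 1 by decide) g hg
      rw [Cfsg.Lib.BigPerm.Fi24.wordVal_one (by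
        have := hg'.1; simp only [Cfsg.Lib.CosetEnum.eps]; omega)]
      exact Subgroup.subset_closure ⟨g, hg', rfl⟩
    · rintro _ ⟨g, ⟨hg, hg1⟩, rfl⟩
      exact Cfsg.Lib.BigPerm.Fi24.x_mem_Hsub hg hg1
  · intro g hg c hc
    have hmem : Cfsg.Lib.BigPerm.Fi24.x (g + 2) ∈ Cfsg.Lib.BigPerm.Fi24.Hsub :=
      Cfsg.Lib.BigPerm.Fi24.x_mem_Hsub (by omega) (by omega)
    show φ (e c) = _
    rw [show e c = ⟨_, hmem⟩ from Subtype.ext hc, hval g hg hmem]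
    rfl
  · intro c hc
    have h : e c ∈ Cfsg.Lib.BigPerm.Fi24.Zl := hker ▸ (MonoidHom.mem_ker.2 hc)
    obtain ⟨m, hm⟩ := Subgroup.mem_zpowers_iff.1 h
    exact Subgroup.mem_zpowers_iff.2 ⟨m, congrArg Subtype.val hm⟩

/-- The class of the presented Fi24. -/
theorem fi24_type : Cfsg.IsThreeTranspositionClass Cfsg.Lib.BigPerm.Fi24.D ∧
    Cfsg.IsPrimitiveUnderConj Cfsg.Lib.BigPerm.Fi24.D ∧
      Cfsg.IsOfTypeM24 Cfsg.Spor.Fi24 Cfsg.Lib.BigPerm.Fi24.D := by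
  haveI := Cfsg.Lib.BigPerm.Fi24.finite_Fi24
  obtain ⟨φ, B⟩ := exists_basics24
  exact ⟨B.cls, B.prim, B.type24⟩

end Cfsg.Lib.Fischer.M24Exist
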