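import Cfsg.Agent.Lib.Fischer.Cent23.Presented
import Cfsg.Agent.Lib.Fischer.Relations.Twenty.Order
import Cfsg.Agent.Lib.CosetEnum.Fi23O8.Main

/-!
# The record of type M(24) from a neighbourhood isomorphic to the presented Fi23

A class of 306936 members whose neighbourhood group modulo centre is the presented Fi23 with its class, and a
member outside the neighbourhood commuting with nine standard generators: the common neighbours are then the
two smaller orbits of those nine, so that their group is PΩ⁺(8, 3):S₃.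
-/

set_option autoImplicit false
set_option linter.unusedSectionVars false
set_option maxRecDepth 100000
set_option linter.style.haveILetI false

namespace Cfsg.Lib.Fischer.M24Exist

open Cfsg Cfsg.Lib.CosetEnum Cfsg.Lib.Fischer Cfsg.Lib.Fischer.Relations
open Cfsg.Lib.Fischer.Cent23 (x23 delta23 fi23_type fi23_facts class23 gen_conj23 image_perp quot_image)
open Cfsg.Lib.Fischer.Fi22Type (map_center_equiv)

section Transport

variable {A : Type*} [Group A] {B : Type*} [Group B]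

theorem type23_map (e : A ≃* B) {D : Set A} (h : Cfsg.IsOfTypeM23 A D) : Cfsg.IsOfTypeM23 B (e '' D) := by
  obtain ⟨hZ, a, ha, c, hc, hnc, h22, k, hk, Q, hQ1, hQ2, ⟨eL⟩⟩ := h
  refine ⟨by rw [← map_center_equiv e, hZ, Subgroup.map_bot], e a, ⟨a, ha, rfl⟩, e c, ⟨c, hc, rfl⟩,
    fun h => hnc (e.injective (by rw [map_mul, map_mul]; exact h.eq)), ?_, k, hk, Q, hQ1, hQ2, ?_⟩
  · have hmap : (Subgroup.closure (perp D a)).map (e : A →* B) = Subgroup.closure (perp (e '' D) (e a)) := by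
      rw [MonoidHom.map_closure]; exact congrArg _ (image_perp e D a)
    let f : ↥(Subgroup.closure (perp D a)) ≃* ↥(Subgroup.closure (perp (e '' D) (e a))) :=
      (e.subgroupMap (Subgroup.closure (perp D a))).trans (MulEquiv.subgroupCongr hmap)
    let g := QuotientGroup.congr _ _ f (map_center_equiv f)
    have h' := Cent23.type22_map g h22
    have himg : g '' ((QuotientGroup.mk : ↥(Subgroup.closure (perp D a)) → _) '' {x | (x : A) ∈ perp D a}) =
        (QuotientGroup.mk : ↥(Subgroup.closure (perp (e '' D) (e a))) → _) ''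
          {x | (x : B) ∈ perp (e '' D) (e a)} := by
      ext u
      constructor
      · rintro ⟨_, ⟨x, hx, rfl⟩, rfl⟩
        exact ⟨f x, (Set.ext_iff.1 (image_perp e D a) _).1 ⟨_, hx, rfl⟩, rfl⟩
      · rintro ⟨y, hy, rfl⟩
        obtain ⟨x, rfl⟩ := f.surjective y
        refine ⟨_, ⟨x, ?_, rfl⟩, rfl⟩
        obtain ⟨w, hw, he⟩ := (Set.ext_iff.1 (image_perp e D a) _).2 hy
        show (x : A) ∈ perp D a
        rwa [← e.injective (show e w = e (x : A) from he)]
    exact himg ▸ h'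
  · obtain ⟨f⟩ := quot_image e (perp D a ∩ perp D c) (perp (e '' D) (e a) ∩ perp (e '' D) (e c))
      (by rw [Set.image_inter e.injective, image_perp, image_perp])
    exact ⟨f.symm.trans eL⟩

end Transport

/-- The table of the presented Fi23 for the subgroup PΩ⁺(8, 3):S₃. -/
theorem exists_tab : haveI := fi23_facts.1; ∃ T : Fi23O8.Tab23 Cfsg.Spor.Fi23,
    T.A.x = x23 ∧ conjugatesOf T.A.d = conjugatesOf delta23 := by
  haveI := fi23_facts.1
  obtain ⟨A, hZ, hk, hp, hx, -, -, -, -, hcls⟩ := Fi23Out.exists_table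
  refine ⟨{ A := A, hZ := hZ, hk := hk, hp := hp, center := fi23_facts.2.2, cls := hcls.1 }, hx, ?_⟩
  have h0 : IsConj A.d (x23 0) := by
    rw [show x23 = A.x from hx.symm, ← A.delta_pts (g := 0) (by rw [hk]; norm_num)]
    exact (A.isConj_iff_exists _).2 ⟨_, rfl⟩
  exact h0.conjugatesOf_eq.trans gen_conj23.conjugatesOf_eq.symm

/-- A member of the class of Fi23 commutes with 3511 members, itself included. -/
theorem card_commute23 {t : Cfsg.Spor.Fi23} (ht : t ∈ conjugatesOf delta23) :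
    {u : Cfsg.Spor.Fi23 | u ∈ conjugatesOf delta23 ∧ Commute t u}.ncard = 3511 := by
  haveI := fi23_facts.1
  obtain ⟨hcls, hprim, h23⟩ := fi23_type
  obtain ⟨d, K⟩ := m23_data (trans_of_class hcls) hprim h23 fun c hc Q hQ =>
    Dvd.dvd.trans (by norm_num) (ReflSeven.quot_dvd Q hQ hc)
  have hv : (perp (conjugatesOf delta23) t).ncard = 3510 := by
    obtain ⟨F, _, _, hF, b, ⟨C⟩⟩ := exists_coord23 K
    rw [← Nat.card_coe_set_eq]; exact C.params.val t ht
  have hset : {u : Cfsg.Spor.Fi23 | u ∈ conjugatesOf delta23 ∧ Commute t u} =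
      insert t (perp (conjugatesOf delta23) t) := by
    ext u
    constructor
    · rintro ⟨h1, h2⟩
      by_cases h : u = t
      exacts [Or.inl h, Or.inr ⟨h1, h, h2⟩]
    · rintro (rfl | h)
      exacts [⟨ht, Commute.refl u⟩, ⟨h.1, h.2.2⟩]
  rw [hset, Set.ncard_insert_of_notMem (fun h => h.2.1 rfl), hv]

universe u

variable {G : Type u} [Group G] [Finite G] {D : Set G} {d c : G}
  {π : ↥(Subgroup.closure (perp D d)) →* Cfsg.Spor.Fi23}

/-- The neighbourhood with its image in Fi23. -/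
structure Nbr (D : Set G) (d c : G) (π : ↥(Subgroup.closure (perp D d)) →* Cfsg.Spor.Fi23) : Prop where
  trans : Trans D
  prim : Cfsg.IsPrimitiveUnderConj D
  center : Subgroup.center G = ⊥
  card : Nat.card D = 306936
  mem : d ∈ D
  mem' : c ∈ D
  far : ¬ Commute d c
  surj : Function.Surjective π
  ker : π.ker = Subgroup.center ↥(Subgroup.closure (perp D d))
  img : π '' {x | (x : G) ∈ perp D d} = conjugatesOf delta23
  gens : ∀ g, 1 ≤ g → g < 10 → ∃ x : ↥(Subgroup.closure (perp D d)), (x : G) ∈ common D d c ∧ π x = x23 g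

namespace Nbr

variable (N : Nbr D d c π)
include N

theorem witness : ∃ a ∈ D, ∃ b ∈ D, a ≠ b ∧ Commute a b := by
  obtain ⟨x, hx, -⟩ := N.gens 1 le_rfl (by norm_num)
  exact ⟨d, N.mem, _, hx.1.1, Ne.symm hx.1.2.1, hx.1.2.2⟩

theorem fis : IsFischer D := isFischer_of_primitive N.trans N.prim N.witness N.center

theorem sep : ∀ a ∈ D, ∀ b ∈ D, (∀ e ∈ D, Commute a e ↔ Commute b e) → a = b :=
  sep_of_core N.trans N.prim.2.1 (core_le_center_of_primitive N.trans N.prim N.witness).1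

theorem noncomm : ∀ a ∈ perp D d, ∃ e ∈ perp D d, ¬ Commute a e := fun _ ha =>
  exists_perp_noncommute N.trans N.sep N.mem ha

/-- The image in Fi23 of a neighbour. -/
noncomputable def at' (π : ↥(Subgroup.closure (perp D d)) →* Cfsg.Spor.Fi23) (x : perp D d) : Cfsg.Spor.Fi23 :=
  π ⟨x.1, Subgroup.subset_closure x.2⟩

theorem at_mem (x : perp D d) : at' π x ∈ conjugatesOf delta23 := N.img ▸ ⟨_, x.2, rfl⟩

theorem at_injective : Function.Injective (at' (D := D) (d := d) π) := by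
  intro x y h
  refine Subtype.ext (bar_inj N.trans (fun _ h => h.1) N.noncomm x.2 y.2 ?_)
  rw [bar, bar, QuotientGroup.eq, ← N.ker, MonoidHom.mem_ker, map_mul, map_inv, inv_mul_eq_one]
  exact h

theorem at_commute (x y : perp D d) : Commute (at' π x) (at' π y) ↔ Commute (x : G) y := by
  rw [← bar_commute N.trans (fun _ h => h.1) x.2 y.2]
  constructor
  · intro h
    show bar x.2 * bar y.2 = bar y.2 * bar x.2
    rw [bar, bar, ← QuotientGroup.mk_mul, ← QuotientGroup.mk_mul, QuotientGroup.eq, ← N.ker, MonoidHom.mem_ker,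
      map_mul, map_inv, inv_mul_eq_one, map_mul, map_mul]
    exact h.eq
  · intro h
    have h' : bar x.2 * bar y.2 = bar y.2 * bar x.2 := h
    rw [bar, bar, ← QuotientGroup.mk_mul, ← QuotientGroup.mk_mul, QuotientGroup.eq, ← N.ker, MonoidHom.mem_ker,
      map_mul, map_inv, inv_mul_eq_one, map_mul, map_mul] at h'
    exact h'

theorem at_range : Set.range (at' (D := D) (d := d) π) = conjugatesOf delta23 := by
  refine Set.Subset.antisymm (by rintro _ ⟨x, rfl⟩; exact N.at_mem x) fun u hu => ?_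
  rw [← N.img] at hu
  obtain ⟨x, hx, rfl⟩ := hu
  exact ⟨⟨x, hx⟩, rfl⟩

theorem card_perp : Nat.card (perp D d) = 31671 := by
  rw [← Nat.card_range_of_injective N.at_injective, N.at_range]
  exact class23.2

theorem card_adj {t : G} (ht : t ∈ perp D d) : Nat.card {u | u ∈ perp D d ∧ Commute t u} = 3511 := by
  rw [← card_commute23 (N.at_mem ⟨t, ht⟩), ← Nat.card_coe_set_eq]
  refine Nat.card_congr (Equiv.ofBijective
    (fun u : {u | u ∈ perp D d ∧ Commute t u} =>
      (⟨at' π ⟨u.1, u.2.1⟩, N.at_mem _, (N.at_commute ⟨t, ht⟩ ⟨u.1, u.2.1⟩).2 u.2.2⟩ :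
        {v | v ∈ conjugatesOf delta23 ∧ Commute (at' π ⟨t, ht⟩) v})) ⟨fun u v h => ?_, fun v => ?_⟩)
  · exact Subtype.ext (Subtype.mk.inj (N.at_injective (congrArg Subtype.val h)))
  · obtain ⟨v, hv1, hv2⟩ := v
    rw [← N.at_range] at hv1
    obtain ⟨x, rfl⟩ := hv1
    exact ⟨⟨x.1, x.2, (N.at_commute ⟨t, ht⟩ x).1 hv2⟩, rfl⟩

theorem params : Params D 31671 3511 := by
  refine ⟨fun a ha => ?_, fun a ha t ht => ?_⟩ <;> obtain ⟨g, rfl⟩ := N.trans.trans d N.mem a ha
  · rw [← N.card_perp]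
    exact Nat.card_congr (((MulAut.conj g).symm.toEquiv).subtypeEquiv fun z => by
      simpa [MulAut.conj_symm_apply] using mem_perp_conj N.trans g d z)
  · have ht' := (mem_perp_conj N.trans g d t).1 ht
    rw [← N.card_adj ht']
    refine Nat.card_congr (((MulAut.conj g).symm.toEquiv).subtypeEquiv fun z => ?_)
    simp only [Set.mem_setOf_eq, MulEquiv.toEquiv_eq_coe, MulEquiv.coe_toEquiv, MulAut.conj_symm_apply]
    rw [mem_perp_conj N.trans g d z]
    refine and_congr_right fun _ => ?_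
    simpa using (Commute.conj_iff (a := t) (b := z) g⁻¹).symm

theorem card_common : (common D d c).ncard = 3240 := by
  have h1 := far_mul_common N.fis N.params N.mem N.mem' N.far
  have h2 := card_class N.mem N.params
  rw [← Nat.card_coe_set_eq D, N.card] at h2
  rw [show Nat.card (Relations.far D d) = 275264 by omega, Nat.card_coe_set_eq] at h1
  norm_num at h1
  omega

/-- The images of the common neighbours are the members of PΩ⁺(8, 3):S₃. -/
theorem common_image : haveI := fi23_facts.1; ∀ T : Fi23O8.Tab23 Cfsg.Spor.Fi23, T.A.x = x23 →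
    conjugatesOf T.A.d = conjugatesOf delta23 →
    π '' {x | (x : G) ∈ common D d c} = {u | u ∈ conjugatesOf delta23 ∧ u ∈ Fi23O8.L T} := by
  haveI := fi23_facts.1
  intro T hx hd
  obtain ⟨C, hC⟩ : ∃ C, C = π '' {x : ↥(Subgroup.closure (perp D d)) | (x : G) ∈ common D d c} := ⟨_, rfl⟩
  rw [← hC]
  have hsub : C ⊆ conjugatesOf delta23 := hC ▸ N.img ▸ Set.image_mono fun x hx => hx.1
  have hcardC : C.ncard = 3240 := by
    rw [hC, Set.InjOn.ncard_image, ← N.card_common, ← Set.ncard_image_of_injective _ Subtype.val_injective]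
    · congr 1
      ext y
      exact ⟨fun ⟨x, hx, e⟩ => e ▸ hx, fun hy => ⟨⟨y, Subgroup.subset_closure hy.1⟩, hy, rfl⟩⟩
    · intro x hx y hy h
      exact Subtype.ext (Subtype.mk.inj (N.at_injective (a₁ := ⟨x.1, hx.1⟩) (a₂ := ⟨y.1, hy.1⟩) h))
  let P : Set (Fin 31671) := {q | T.A.delta q ∈ C}
  have hP : P.ncard = 3240 := by
    rw [← hcardC, ← Set.ncard_image_of_injective P T.A.delta_injective]
    congr 1
    ext u
    refine ⟨fun ⟨q, hq, e⟩ => e ▸ hq, fun hu => ?_⟩
    obtain ⟨q, rfl⟩ := (T.A.isConj_iff_exists u).1 (Set.ext_iff.1 hd u |>.2 (hsub hu))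
    exact ⟨q, hu, rfl⟩
  have hgens : ∀ g ∈ Fi23O8.sGens, ∀ u ∈ C, T.A.x g * u * (T.A.x g)⁻¹ ∈ C := by
    intro g hg u hu
    obtain ⟨s, hs, hsx⟩ := N.gens g (Fi23O8.mem_sGens.1 hg).1 (Fi23O8.mem_sGens.1 hg).2
    rw [hC] at hu ⊢
    obtain ⟨y, hy, rfl⟩ := hu
    refine ⟨s * y * s⁻¹, ?_, by rw [map_mul, map_mul, map_inv, hsx, hx]⟩
    show (s : G) * y * (s : G)⁻¹ ∈ common D d c
    refine ⟨((conj_mem_perp N.trans N.mem (Subgroup.subset_closure (Set.mem_insert_of_mem _ hs.1))).2 _ hy.1).1,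
      ((hs.2.mul_right hy.2).mul_right hs.2.inv_right)⟩
  have hH : ∀ h ∈ Fi23O8.H1 T, ∀ q ∈ P, T.A.f h q ∈ P := by
    intro h hh
    induction hh using Subgroup.closure_induction_left with
    | one => intro q hq; simpa using hq
    | mul_left g hg y _ ih =>
      intro q hq
      obtain ⟨g, hg', rfl⟩ := hg
      show T.A.delta (T.A.f (T.A.x g * y) q) ∈ C
      rw [map_mul, Equiv.Perm.mul_apply, T.A.delta_apply]
      exact hgens g hg' _ (ih q hq)
    | inv_mul_cancel g hg y _ ih =>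
      intro q hq
      obtain ⟨g, hg', rfl⟩ := hg
      show T.A.delta (T.A.f ((T.A.x g)⁻¹ * y) q) ∈ C
      rw [inv_eq_of_mul_eq_one_right (T.A.sq g), map_mul, Equiv.Perm.mul_apply, T.A.delta_apply]
      exact hgens g hg' _ (ih q hq)
  -- the orbit of a member is inside
  have horb : ∀ q ∈ P, ∀ r : Fin 31671,
      Fi23O8.rootOf (Fi23O8.place r) = Fi23O8.rootOf (Fi23O8.place q) → r ∈ P := by
    intro q hq r hr
    obtain ⟨h, hh, hq', e⟩ := Fi23O8.reach T (Fi23O8.place q) (Fi23O8.place_lt q)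
    obtain ⟨h', hh', hr', e'⟩ := Fi23O8.reach T (Fi23O8.place r) (Fi23O8.place_lt r)
    rw [Fi23O8.pl_place] at e e'
    rw [← e', show (Fi23O8.pl hr' : Fin 31671) = Fi23O8.pl hq' from Fin.ext
      (by show Fi23O8.ordPt _ = Fi23O8.ordPt _; rw [hr])]
    refine hH h' hh' _ ?_
    have h2 := hH h⁻¹ (inv_mem hh) q hq
    rwa [map_inv, ← e, Equiv.Perm.inv_def, Equiv.symm_apply_apply] at h2
  have hsmall : ∀ n : ℕ, n ≤ 31671 → {r : Fin 31671 | Fi23O8.place r < n}.ncard = n := by
    intro n hn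
    have hb : Function.Bijective (fun r : {r : Fin 31671 | Fi23O8.place r < n} => (⟨Fi23O8.place r.1, r.2⟩ : Fin n)) := by
      refine ⟨fun a b h => Subtype.ext ?_, fun j => ?_⟩
      · rw [← Fi23O8.pl_place a.1, ← Fi23O8.pl_place b.1]
        exact Fin.ext (by show Fi23O8.ordPt _ = Fi23O8.ordPt _; rw [show Fi23O8.place a.1 = Fi23O8.place b.1 from congrArg Fin.val h])
      · have hj : j.val < 31671 := by omega
        exact ⟨⟨Fi23O8.pl hj, by show Fi23O8.place _ < n; rw [Fi23O8.place_pl hj]; exact j.2⟩,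
          Fin.ext (Fi23O8.place_pl hj)⟩
    rw [← Nat.card_coe_set_eq, Nat.card_eq_of_bijective _ hb, Nat.card_fin]
  have hbig : ∀ q ∈ P, Fi23O8.place q < 3240 := by
    intro q hq
    by_contra hge
    have hle : {r : Fin 31671 | ¬ Fi23O8.place r < 3240} ⊆ P := fun r hr => horb q hq r (by
      rw [Fi23O8.rootOf_eq, Fi23O8.rootOf_eq, if_neg (fun h => hr (lt_trans h (by norm_num))), if_neg hr,
        if_neg (fun h => hge (lt_trans h (by norm_num))), if_neg hge])
    have h1 := Set.ncard_le_ncard hle (Set.toFinite _)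
    have h2 := Set.ncard_add_ncard_compl {r : Fin 31671 | Fi23O8.place r < 3240}
    rw [hsmall 3240 (by norm_num), Nat.card_fin] at h2
    rw [show ({r : Fin 31671 | Fi23O8.place r < 3240}ᶜ : Set (Fin 31671)) =
      {r : Fin 31671 | ¬ Fi23O8.place r < 3240} from rfl] at h2
    omega
  have hPeq : P = {r : Fin 31671 | Fi23O8.place r < 3240} :=
    Set.eq_of_subset_of_ncard_le hbig (by rw [hsmall 3240 (by norm_num), hP]) (Set.toFinite _)
  ext u
  constructor
  · intro hu
    refine ⟨hsub hu, ?_⟩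
    obtain ⟨q, rfl⟩ := (T.A.isConj_iff_exists u).1 (Set.ext_iff.1 hd u |>.2 (hsub hu))
    exact (Fi23O8.delta_mem_L_iff T q).2 (hbig q hu)
  · rintro ⟨hu, huL⟩
    obtain ⟨q, rfl⟩ := (T.A.isConj_iff_exists u).1 (Set.ext_iff.1 hd u |>.2 hu)
    exact (Set.ext_iff.1 hPeq q).2 ((Fi23O8.delta_mem_L_iff T q).1 huL)

/-- The group is of type M(24). -/
theorem type24 : Cfsg.IsOfTypeM24 G D := by
  haveI := fi23_facts.1
  obtain ⟨T, hx, hd⟩ := exists_tab
  let q : ↥(Subgroup.closure (perp D d)) ⧸ Subgroup.center ↥(Subgroup.closure (perp D d)) ≃* Cfsg.Spor.Fi23 :=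
    (QuotientGroup.quotientMulEquivOfEq N.ker.symm).trans (QuotientGroup.quotientKerEquivOfSurjective π N.surj)
  have h23 : Cfsg.IsOfTypeM23 _ (image (perp D d)) := by
    have himg : q.symm '' conjugatesOf delta23 = image (perp D d) := by
      rw [← N.img, Set.image_image]
      refine Set.image_congr' fun x => ?_
      exact q.injective (by rw [q.apply_symm_apply]; rfl)
    exact himg ▸ type23_map q.symm fi23_type.2.2
  have hset : ({y : G | y ∈ D ∧ y ≠ d ∧ Commute d y} ∩ {y : G | y ∈ D ∧ y ≠ c ∧ Commute c y}) = common D d c := by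
    ext y
    exact ⟨fun h => ⟨h.1, h.2.2.2⟩, fun h => ⟨h.1, h.1.1, fun e => N.far (e ▸ h.1.2.2), h.2⟩⟩
  suffices key : ∀ S, S = common D d c →
      ∃ (N : Subgroup (↥(Subgroup.closure S) ⧸ Subgroup.center ↥(Subgroup.closure S))) (_ : N.Normal),
        Nonempty (N ≃* Cfsg.POmega (ZMod 3) (Cfsg.quadFormPlus 4 (ZMod 3))) ∧
        Nonempty ((↥(Subgroup.closure S) ⧸ Subgroup.center ↥(Subgroup.closure S)) ⧸ N ≃* Equiv.Perm (Fin 3)) from
    ⟨N.center, d, N.mem, c, N.mem', N.far, h23, key _ hset⟩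
  rintro S rfl
  obtain ⟨hle, hgen⟩ : Subgroup.closure (common D d c) ≤ Subgroup.closure (perp D d) ∧
      Subgroup.closure {x : ↥(Subgroup.closure (perp D d)) | (x : G) ∈ common D d c} =
        (Subgroup.closure (common D d c)).subgroupOf (Subgroup.closure (perp D d)) := by
    have hle : Subgroup.closure (common D d c) ≤ Subgroup.closure (perp D d) := Subgroup.closure_mono fun x hx => hx.1
    refine ⟨hle, Subgroup.map_injective (Subgroup.subtype_injective _) ?_⟩
    rw [MonoidHom.map_closure, Subgroup.subgroupOf_map_subtype, inf_of_le_left hle]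
    congr 1
    ext y
    exact ⟨fun ⟨x, hx, e⟩ => e ▸ hx, fun hy => ⟨⟨y, Subgroup.subset_closure hy.1⟩, hy, rfl⟩⟩
  have hL : ((Subgroup.closure (common D d c)).subgroupOf (Subgroup.closure (perp D d))).map π = Fi23O8.L T := by
    rw [← hgen, MonoidHom.map_closure, N.common_image T hx hd]
    refine le_antisymm ((Subgroup.closure_le _).2 fun u hu => hu.2) ((Subgroup.closure_le _).2 ?_)
    rintro _ (rfl | ⟨g, hg, rfl⟩)
    · refine Subgroup.subset_closure ⟨hd ▸ ?_, Fi23O8.tEl_mem_L T⟩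
      rw [Fi23O8.tEl_eq]
      exact (T.A.isConj_iff_exists _).2 ⟨_, rfl⟩
    · refine Subgroup.subset_closure ⟨hd ▸ ?_, Fi23O8.H1_le_L T (Fi23O8.x_mem_H1 T hg)⟩
      exact (T.A.isConj_iff_exists _).2 ⟨_, Fi23O8.delta_gPt T (Fi23O8.mem_sGens.1 hg).2⟩
  let ι : ↥(Subgroup.closure (common D d c)) →* ↥(Subgroup.closure (perp D d)) := Subgroup.inclusion hle
  have hι : ∀ x, π (ι x) ∈ Fi23O8.L T := fun x => hL ▸ ⟨ι x, x.2, rfl⟩
  let ρ : ↥(Subgroup.closure (common D d c)) →* ↥(Fi23O8.L T) := (π.comp ι).codRestrict _ hι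
  have hρ : Function.Surjective ρ := fun y => by
    obtain ⟨x, hx', e⟩ := (Set.ext_iff.1 (congrArg SetLike.coe hL) y.1).2 y.2
    exact ⟨⟨x, hx'⟩, Subtype.ext e⟩
  have hcenL : Subgroup.center ↥(Fi23O8.L T) = ⊥ := by
    rw [eq_bot_iff]
    intro z hz
    have h : (z : Cfsg.Spor.Fi23) ∈ Subgroup.centralizer (Fi23O8.M T : Set Cfsg.Spor.Fi23) :=
      Subgroup.mem_centralizer_iff.2 fun m hm =>
        congrArg Subtype.val (Subgroup.mem_center_iff.1 hz ⟨m, Fi23O8.M_le_L T hm⟩)
    rw [Fi23O8.centralizer_M, Subgroup.mem_bot] at h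
    exact Subgroup.mem_bot.2 (Subtype.ext h)
  have hker : ρ.ker = Subgroup.center ↥(Subgroup.closure (common D d c)) := by
    refine le_antisymm (fun x hx' => ?_) fun x hx' => ?_
    · have h1 : ι x ∈ π.ker := congrArg Subtype.val (MonoidHom.mem_ker.1 hx')
      rw [N.ker, Subgroup.mem_center_iff] at h1
      exact Subgroup.mem_center_iff.2 fun y => Subtype.ext
        ((congrArg (Subtype.val : ↥(Subgroup.closure (perp D d)) → G) (h1 (ι y)) :))
    · have h1 : ρ x ∈ Subgroup.center ↥(Fi23O8.L T) := Subgroup.mem_center_iff.2 fun y => by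
        obtain ⟨w, rfl⟩ := hρ y
        rw [← map_mul, ← map_mul, Subgroup.mem_center_iff.1 hx' w]
      rwa [hcenL, Subgroup.mem_bot] at h1
  let eL := (QuotientGroup.quotientMulEquivOfEq hker.symm).trans (QuotientGroup.quotientKerEquivOfSurjective ρ hρ)
  haveI := Fi23O8.M_normal T
  obtain ⟨eQ⟩ := (Fi23O8.quotient_facts T).1
  obtain ⟨eM⟩ := Fi23O8.nonempty_M_equiv T
  have hNn := Subgroup.Normal.comap (Fi23O8.M_normal T) eL.toMonoidHom
  refine ⟨((Fi23O8.M T).subgroupOf (Fi23O8.L T)).comap eL.toMonoidHom, hNn, ?_, ?_⟩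
  · exact ⟨(((MulEquiv.subgroupCongr (Subgroup.comap_equiv_eq_map_symm eL _)).trans (eL.symm.subgroupMap _).symm).trans (Subgroup.subgroupOfEquivOfLe (Fi23O8.M_le_L T))).trans eM⟩
  · exact ⟨(QuotientGroup.congr _ _ eL (Subgroup.map_comap_eq_self_of_surjective eL.surjective _)).trans eQ⟩

end Nbr

end Cfsg.Lib.Fischer.M24Exist
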